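import Cfsg.Agent.HST.ModG
import Cfsg.Agent.SporChar.WFormGen
import Cfsg.Agent.Solv.PGroupBasic

/-! The Sylow 2-subgroup of the Higman-Sims group: a permutation model. -/

set_option autoImplicit false
set_option maxRecDepth 100000
set_option linter.unusedSimpArgs false
set_option maxHeartbeats 1000000

namespace Cfsg.Lib.HSyl

open Subgroup Cfsg.Lib.Spor Cfsg.Lib.Spor.Bulk Cfsg.Lib.Spor.PK Cfsg.Lib.Spor.WF

/-- inverse letters -/
noncomputable def iS (l : ℕ) : ℕ := PK.nth 0 [0, 2, 1, 4, 3, 6, 5, 7, 8, 9, 10] l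

/-- relators -/
def rV : List (List ℕ) := [[1, 1, 1, 1], [3, 3, 3, 3], [5, 5, 5, 5], [4, 2, 3, 1], [6, 2, 5, 1], [6, 4, 5, 3]]

/-- relators -/
def rS : List (List ℕ) := rV ++ [[1, 7, 1, 7], [6, 7, 3, 7], [4, 7, 5, 7], [2, 8, 1, 8], [2, 3, 6, 6, 8, 3, 8], [5, 8, 5, 8],
    [7, 8, 7, 8, 7, 8, 7, 8], [9, 1, 1], [10, 3, 3, 5, 5]]

noncomputable def tcV_C : SeqCert := ⟨nat_lit 6, nat_lit 9, nat_lit 11, nat_lit 0xa0a0909080807070506060503040403010202010000, (NT.leaf (nat_lit 0) (nat_lit 0x4eff03f3f02f7f01fbf05ebf04dbe03dfe01e3e05d7e04cbd03cfd02e3d05c7d03bfc02cfc01dfc05bbc04bfb02cbb01dbb05b3b03bba04b3a01d7a02c7a04af903b7902c3901d3904a3803a78059f80397701a77059370497601a36058b603935048b5019f504874038f4019b4037f302a73057b3047f202a3205732037b104731029f1046f003770029b0027ef0196f0566f0366e0192e027ae0362d0276d018ed0466c018ac0272c0462b026eb0186b026aa0182a035ea035690552904568054a803527044a704466034e601565053e5033e401524033a3014e3043e2014a2043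a10146101420033600255f052df032de0251e0329d024dd042dc0249c0429b0245b0241a0325a013d9022d90229801398013570225702216013160519503194031530419204151031100118f0114e0110d010cc0218b0214a02109020c80108705ff905fb405f7005f2d05eeb06eaa05e6a05e2605de305da106d6005d2005cdd05c9b06c5a05c1a05bd806b9705b5706b1605ad603a9605a5305a11069d0059900594e0690d058cd0688c0584c0380c057ca067890574906708056c8036880664705607045c7035870554506504054c4064830544303403063c2053820434203302062c1052810424103201011c1061800514004100030c0020800104000000)), (NT.node (nat_lit 7) (NT.node (nat_lit 3) (NT.node (nat_lit 1) (NT.leaf (nat_lit 0) (nat_lit 0x1010101)) (NT.node (nat_lit 2) (NT.leaf (nat_lit 13) (nat_lit 0x2040103)) (NT.leaf (nat_lit 16396) (nat_lit 0x2030104)))) (NT.node (nat_lit 5) (NT.node (nat_lit 4) (NT.leaf (nat_lit 17) (nat_lit 0x2060105)) (NT.leaf (nat_lit 16400) (nat_lit 0x2050106))) (NT.node (nat_lit 6) (NT.leaf (nat_lit 49164) (nat_lit 0x1040203)) (NT.leaf (nat_lit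 32781) (nat_lit 0x1030204))))) (NT.node (nat_lit 11) (NT.node (nat_lit 9) (NT.node (nat_lit 8) (NT.leaf (nat_lit 49168) (nat_lit 0x1060205)) (NT.leaf (nat_lit 32785) (nat_lit 0x1050206))) (NT.node (nat_lit 10) (NT.leaf (nat_lit 4) (nat_lit 0x3030303)) (NT.leaf (nat_lit 21) (nat_lit 0x4060305)))) (NT.node (nat_lit 13) (NT.node (nat_lit 12) (NT.leaf (nat_lit 16404) (nat_lit 0x4050306)) (NT.leaf (nat_lit 49172) (nat_lit 0x3060405))) (NT.node (nat_lit 14) (NT.leaf (nat_lit 32789) (nat_lit 0x3050406)) (NT.leaf (nat_lit 8) (nat_lit 0x5050505))))))⟩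
noncomputable def tcV_U : List (List ℕ) := []
noncomputable def tcV_HL : List ℕ := []
theorem tcV_head : tcV_C.head 11 iS rV tcV_U tcV_HL 64 6 0 = true := by decide +kernel
noncomputable def tcV_s0 : List ℕ := [nat_lit 0xfd4f3b80c147ea69e4060c3f52cf603019fa927d0181cfc723a80c1c7c979b4060a3e4b4de03061f256710181cf8683580c1c7a8b994060a3d454ce03061ea26710180cf4603180c1c788297c060c3c40cce03019e2026f0181cf05a2e80c1c767c97c060a3b3dcca03019d9ea6d0181cec562c80c1c7477974060d3a150b203059d1e26b01820e8f33180c08722a15c060a393bcb603061c9e6610180ce4f13480c0e7070944060a3837ca603061c0984f01838dcd52580c186e6994c0607371189203071b19a4b01828d8cb2880c0e6c21114060e3531c9203069a880450182cd4c92780c10682010c060a3431c8e03061a1924d0181cccbd1f80c18665d94c0603330e87a03071916a3f01828c8b32880c06641b0e4060e312bc7a030698868390182cc4b12780c08601a0dc060a302bc760306181624d0180cbca91f80c065e5392c06072f0c06603071705c3301834b8a52480c105c518f406042d0b8620306169463b0180cb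4a52380c0e58160cc060b2c27c8a0304161423901810ac2c1880c1456508dc06032b27c860303951423501804a89f2080c0a54160bc0609292645603061484c2901838a0951580c145011094060e2724c52030693840250182c98201180c144c4989c060c2523c560303928381f01838901a0f80c1a48468a40608230683a03061191a270181c88180f80c1644458940608210603a030510916230181c808b1080c0a400c06c06091f21c5603018f828170183878120b80c1a3c428a406041d0482a03060e90a270180c70100b80c16384189406041b0402a03050d906230180c68831080c02340804c0609192043e03040c81c1701810600e0a80c0630408740607172043603030b81c1301808580e0880c022c408640605150281a03070a0100d018344c080580c182403034060b110181603050800c09018243c040680c101c0202c06070d0101203030600807018142c020680c08140102c0603090081203010400407018041c020280c0081]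
theorem tcV_ok0 : tcV_C.StepsOK 64 193 := (SeqCert.StepsOK.refl _ 64).step (L := tcV_s0) (by decide +kernel)
theorem tcV_ok : tcV_C.StepsOK (64 + 0) 193 := tcV_ok0
noncomputable def tcV_r0 : List ℕ := [nat_lit 0x60c0a141020183020402040, nat_lit 0xb161428244840801800e1c1, nat_lit 0xf1e1c38346860c408e05002, nat_lit 0x122422440e00810459883203, nat_lit 0x1428264d2680240469a85244, nat_lit 0x5802a55329a551479c87285, nat_lit 0x4eaa0d0136a25d2489e892c6, nat_lit 0x193230605cb8b16078280087, nat_lit 0x1c38366c2208d1a4106a1588, nat_lit 0x1e3c3a755ed04c14208a35c9, nat_lit 0xa823e7d7aead5b430aa960a, nat_lit 0x61be170582f2e5c440cab64b, nat_lit 0x2244428432110204fac8a0cc, nat_lit 0x2448468d8f006c252ae8c10d, nat_lit 0xe844a95ab1b36153b08e14e, nat_lit 0x6dca1f09b32346256b29018f, nat_lit 0x274e4c98421a48464c0b1690, nat_lit 0x118650a1282b86665c2b36d1, nat_lit 0x73d0250d2c338e767c4b7712, nat_lit 0x138852a5bf3260569c6bb753, nat_lit 0x75d22911cb3a6866bc8bf794,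 nat_lit 0x158a9c19db4ba686ecac57d5, nat_lit 0x2c5856ac5a3952a50109e316, nat_lit 0x2e5c5ab5df50bc75112a4357, nat_lit 0x188e5ebe0b6be6b5414a6398, nat_lit 0x86de331e1773fec5516ac3d9, nat_lit 0x316260c06a42b895820f3a9a, nat_lit 0x1b9064c968545f05922f7adb, nat_lit 0x8fe43921705c6f15b24fbb1c, nat_lit 0x1d9266ce2b82f0a5d2703b5d, nat_lit 0x92e63d263b8b00b5f2907b9e, nat_lit 0x1f94c22e539c8f2622b11bdf, nat_lit 0x356a68d0826318d78d4c8420, nat_lit 0x21986cd99874bf47ad6ca461, nat_lit 0x9bec4531a07ccf57ed8ce4a2, nat_lit 0x239a6ede5ba350e80dad24e3, nat_lit 0x9eee49366bab60f84dcd6524, nat_lit 0x259cda3e83bcef687dedc565, nat_lit 0x26a070e1c08b79395e913c26, nat_lit 0xa1f04f41c49391498eb19c67, nat_lit 0x28a2e649d0ad1f89ced21ca8, nat_lit 0x29a6ea528bc3b159fef27ce9, nat_lit 0x3a7472e4aab3b977934f082a, nat_lit 0x2bac76edf0c53f97b36f486b, nat_lit 0xacf65959fccd57a7d38fc8ac, nat_lit 0x2dae78f29bcc118813b008ed, nat_lit 0xb0f85d5eafd4299833d0892e, nat_lit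 0x2fb10c66cfe57fb883f0e96f, nat_lit 0x30b47af62cdc51d894d4be70, nat_lit 0xb4fa636a34e471e8c4f51eb1, nat_lit 0x32b71e7244fdbfd90515def2, nat_lit 0x33bb247adbeca1f935365f33, nat_lit 0x34c07cfa5d0cb23a4f32a9b4, nat_lit 0xb8fc6b826514d24a9f5309f5, nat_lit 0x36c3368a752ddfeadf738a36, nat_lit 0x37c73c92ebf5025b1f93ea77, nat_lit 0x38cd429e8d45129b9fd6bf78, nat_lit 0x39d47efe9d5d32da56148d39, nat_lit 0xbcfe75aaa9655aea86352d7a, nat_lit 0x3bd758b2bd7e07fae655adbb, nat_lit 0x3cdb60bafffd9afb26762dfc, nat_lit 0x3de168c6dd95b33b5717dffd, nat_lit 0x3ee970d6edb5d37bdff72e3e, nat_lit 0x3ff378eb01ddfbcbe7b7afbf]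
theorem tcV_final : tcV_C.final 11 193 (nat_lit 0xffffffffffffffff) 64 [1,2,3,4,5,6] (tcV_r0) = true := by decide +kernel
theorem tcV {G : Type*} [Group G] {g : ℕ → G} {H : Subgroup G} (hg : Sat g 11 iS rV)
    (hU : ∀ u ∈ tcV_U, wv g u ∈ H) (hL : ∀ l ∈ tcV_HL, g l ∈ H) :
    IdxLe H (Subgroup.closure {x | ∃ l ∈ ([1,2,3,4,5,6] : List ℕ), g l = x}) 64 :=
  SeqCert.idxLe_of_final hg hU hL tcV_head tcV_ok tcV_final

noncomputable def tcS_C : SeqCert := ⟨nat_lit 3, nat_lit 9, nat_lit 11, nat_lit 0xa0a0909080807070506060503040403010202010000, (NT.leaf (nat_lit 0) (nat_lit 0x2bf09fc1f703fc17f01fc2b609d80f605d80760ab426d06b40ed01b42a409901a403900640a6c25b036c15b016c29209480d205480520a2424906240c901242800900140030004008f423407ac1e208642100720000)), (NT.node (nat_lit 4) (NT.node (nat_lit 2) (NT.node (nat_lit 1) (NT.leaf (nat_lit 52) (nat_lit 0x90101)) (NT.leaf (nat_lit 56) (nat_lit 0xa03030505))) (NT.node (nat_lit 3) (NT.leaf (nat_lit 24)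 (nat_lit 0x1070107)) (NT.leaf (nat_lit 32796) (nat_lit 0x3070607)))) (NT.node (nat_lit 6) (NT.node (nat_lit 5) (NT.leaf (nat_lit 28) (nat_lit 0x6070307)) (NT.leaf (nat_lit 32804) (nat_lit 0x1080208))) (NT.node (nat_lit 7) (NT.leaf (nat_lit 44) (nat_lit 0x5080508)) (NT.node (nat_lit 8) (NT.leaf (nat_lit 81960) (nat_lit 0x3080203060608)) (NT.leaf (nat_lit 48) (nat_lit 0x708070807080708))))))⟩
noncomputable def tcS_U : List (List ℕ) := []
noncomputable def tcS_HL : List ℕ := [1,2,3,4,5,6]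
theorem tcS_head : tcS_C.head 11 iS rS tcS_U tcS_HL 8 3 3 = true := by decide +kernel
noncomputable def tcS_s0 : List ℕ := [nat_lit 0x160b05a2d01002562b008000e050180405048340e08071188c442183c0c070711c1e0303038860f018149c4e281400801261300400060f0783a1c8340c07060f41a0303030720d018148e47221100801211080400050c8160302028620b0180c142e0580c043d1e8e87404008e070020002050090181010270480c0608120240602180c06432020045c2e010000c1e0f07036070301c0c1f0380c0c060d81c06051309850280200448240100008150a84822050301c08140280c0c040881406050f87c381c02004341a0100004120180c08020a80c0603010400603010502812090100210080080026]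
theorem tcS_ok0 : tcS_C.StepsOK 11 49 := (SeqCert.StepsOK.refl _ 11).step (L := tcS_s0) (by decide +kernel)
theorem tcS_ok : tcS_C.StepsOK (8 + 3) 49 := tcS_ok0
noncomputable def tcS_r0 : List ℕ := [nat_lit 0x6005801100885405004c0480440400, nat_lit 0x8888081980c07887c87487086c8689, nat_lit 0xb10a901402209d0990a50a10950912, nat_lit 0xd98d181c82a8c58c18cd8c98bd8b9b, nat_lit 0x1020fa0330250f20f60ee0ea0e60e24, nat_lit 0x12a92283b82d91a91e91691290e90ad, nat_lit 0x15314b03617793f13b1471431371336, nat_lit 0x18397b83e97316796396f96b95f95bf]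
theorem tcS_final : tcS_C.final 11 49 (nat_lit 0xff) 8 [1,2,3,4,5,6,7,8,9,10] (tcS_r0) = true := by decide +kernel
theorem tcS {G : Type*} [Group G] {g : ℕ → G} {H : Subgroup G} (hg : Sat g 11 iS rS)
    (hU : ∀ u ∈ tcS_U, wv g u ∈ H) (hL : ∀ l ∈ tcS_HL, g l ∈ H) :
    IdxLe H (Subgroup.closure {x | ∃ l ∈ ([1,2,3,4,5,6,7,8,9,10] : List ℕ), g l = x}) 8 :=
  SeqCert.idxLe_of_final hg hU hL tcS_head tcS_ok tcS_final

/-- permutation model -/
@[reducible] def MS : PM where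
  w := 8
  n := 16
  cs := [160091013746179922710827466213804738560,
    64012101086083007754277278551166160920,
    96037699437617986747077062859971631120,
    64302873520511383473462652175646195720,
    96203858634120175209739554742389440520,
    95913086221984391599636257012480213000,
    64136714324105909073487026694158549000,
    138657536201391078130666587858602035200,
    149498566506966687061522380669048076320,
    138740614847622647704012359437615890440,
    160007938261627756580535322718258595840]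
  SW := [([[1],[2],[3],[4],[5],[6],[7],[8],[9],[10]],
    [⟨0, [128, 193, 66, 263, 711, 647, 455, 326, 774, 902, 518, 391, 839, 967, 583], [[2, 6, 2], [0, 5, 0]]⟩,
     ⟨4, [768, 448, 321, 896, 704, 513, 640], [[0, 0, 0, 1, 0, 1, 0, 1, 0]]⟩,
     ⟨5, [768, 512, 896], []⟩]),
   ([[1],[10],[5,5],[8],[7,8,7],[6,8],[4,7,8,7]],
    [⟨0, [128, 259, 324, 453, 518, 64, 707, 900, 645, 774, 388, 838, 965, 580, 192], [[0, 6, 5, 4, 3], [3, 1, 5]]⟩,
     ⟨4, [640, 449, 705], [[0, 1, 0]]⟩,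
     ⟨5, [896, 512, 768], []⟩]),
   ([[1],[10],[5,5],[8],[7,8,7]],
    [⟨0, [128, 259, 324, 64, 707, 900, 449, 388, 513, 192, 641, 964, 769, 580, 836], [[1], [2]]⟩,
     ⟨4, [448], [[1]]⟩,
     ⟨5, [512], []⟩]),
   ([[1],[10],[5,5],[6,8],[4,7,8,7]],
    [⟨0, [128, 451, 516, 64, 643, 772, 257, 964, 321, 835, 192, 705, 580, 897, 387], [[1], [2]]⟩,
     ⟨4, [448], [[1]]⟩,
     ⟨5, [512], []⟩]),
   ([[1],[10],[5,5]],
    [⟨0, [128, 64, 192], [[1], [2]]⟩,
     ⟨4, [448], [[1]]⟩,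
     ⟨5, [512], []⟩]),
   ([[1],[3],[5]],
    [⟨0, [128, 65, 193], [[0, 1, 1, 1, 0], [0, 2, 0]]⟩,
     ⟨4, [640, 448, 704], [[1]]⟩,
     ⟨5, [768, 512, 896], []⟩]),
   ([[9],[10],[5,5]],
    [⟨0, [64], [[2], [1]]⟩,
     ⟨4, [449], [[0]]⟩,
     ⟨5, [512], []⟩]),
   ([[1]],
    [⟨0, [128, 64, 192], []⟩])]

instance : NeZero MS.n := ⟨by decide⟩

theorem MS_ok : MS.ok = true := by decide +kernel

theorem MS_subs : MS.subsOK = true := by decide +kernel

theorem MS_sat : MS.satB 11 iS rS = true := by decide +kernel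

theorem card_le {G : Type*} [Group G] {g : ℕ → G} (hg : Sat g 11 iS rS) :
    Finite (closure {x | ∃ l ∈ [1, 2, 3, 4, 5, 6, 7, 8, 9, 10], g l = x}) ∧
      Nat.card (closure {x | ∃ l ∈ [1, 2, 3, 4, 5, 6, 7, 8, 9, 10], g l = x}) ≤ 512 :=
  (tcS hg (by simp [tcS_U]) fun _ hl => letter_mem g hl).card_le
    ((tcV (hg.mono le_rfl (by decide +kernel)) (H := ⊥) (by simp [tcV_U]) (by simp [tcV_HL])).card_le
      card_bot_le)

/-- A copy of the Sylow 2-subgroup of the Higman-Sims group. -/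
structure HM (G : Type*) [Group G] where
  g : ℕ → G
  emb : Emb MS.m g

namespace HM

variable {G : Type*} [Group G] (F : HM G)

/-- generator of the centre of `Q` -/
abbrev a : G := F.g 1

/-- an element of order four -/
abbrev c : G := F.g 5

/-- an involution inverting `a` -/
abbrev j : G := F.g 7

/-- an involution of `Q` -/
abbrev r : G := F.g 8

/-- the central involution -/
abbrev z : G := F.g 9

/-- an involution of the second centre -/
abbrev w : G := F.g 10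

/-- the whole group -/
def S : Subgroup G := sub F.g (MS.W 0)

/-- the centraliser of `a` -/
def S₀ : Subgroup G := sub F.g (MS.W 1)

/-- the subgroup `4 ∘ 2¹⁺⁴` -/
def Q : Subgroup G := sub F.g (MS.W 2)

/-- the second subgroup `4 ∘ 2¹⁺⁴` -/
def R : Subgroup G := sub F.g (MS.W 3)

/-- the intersection of `Q` and `R` -/
def U : Subgroup G := sub F.g (MS.W 4)

/-- the subgroup `4³` -/
def V : Subgroup G := sub F.g (MS.W 5)

/-- the subgroup `2³` -/
def W : Subgroup G := sub F.g (MS.W 6)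

/-- the centre of `Q` -/
def A : Subgroup G := sub F.g (MS.W 7)

theorem eqs :
    F.a * F.a = F.z ∧ F.z * F.z = 1 ∧ F.z ≠ 1 ∧ F.w * F.w = 1 ∧ F.w ≠ 1 ∧ F.w ≠ F.z ∧ F.j * F.j = 1
    ∧ F.r * F.r = 1 ∧ F.j * F.a = F.z * F.a * F.j ∧ F.j * F.r ≠ F.r * F.j ∧ F.a ≠ F.z * F.a ∧ F.w *
    F.a = F.a * F.w ∧ F.z * F.a = F.a * F.z ∧ F.w * F.z = F.z * F.w ∧ F.r * F.w = F.w * F.z * F.r := by
  have := PM.holds MS_ok MS_subs F.emb (p := (.and (.eq [1,1] [9]) (.and (.eq [9,9] []) (.and (.not (.eq [9] [])) (.and (.eq [10,10] [])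
      (.and (.not (.eq [10] [])) (.and (.not (.eq [10] [9])) (.and (.eq [7,7] []) (.and (.eq [8,8] [])
      (.and (.eq [1,7] [7,1,9]) (.and (.not (.eq [8,7] [7,8])) (.and (.not (.eq [1] [1,9])) (.and (.eq
      [1,10] [10,1]) (.and (.eq [1,9] [9,1]) (.and (.eq [9,10] [10,9]) (.eq [10,8]
      [8,9,10])))))))))))))))) (by decide +kernel)
  simp only [Fm.sem, wv_cons, wv_nil, one_mul, upd_apply, Nat.reduceEqDiff, ↓reduceIte,
    exists_eq_right] at this
  exact this

theorem fS :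
    ∀ s ∈ F.S, s * F.z = F.z * s ∧ (s * F.a = F.a * s ∨ s * F.a = F.z * F.a * s) ∧ (s * s = F.z → s
    * F.a = F.a * s) ∧ (s * F.a = F.a * s → s ∈ F.S₀) ∧ s * s * F.a = F.a * s * s ∧ (s * F.w = F.w *
    s ∨ s * F.w = F.z * F.w * s) := by
  have := PM.holds MS_ok MS_subs F.emb (p := (.all 0 22 (.and (.eq [9,22] [22,9]) (.and (.or (.eq [1,22] [22,1]) (.eq [1,22] [22,1,9])) (.and
      (.imp (.eq [22,22] [9]) (.eq [1,22] [22,1])) (.and (.imp (.eq [1,22] [22,1]) (.ex 1 26 (.eq [26]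
      [22]))) (.and (.eq [1,22,22] [22,22,1]) (.or (.eq [10,22] [22,10]) (.eq [10,22]
      [22,10,9]))))))))) (by decide +kernel)
  simp only [Fm.sem, wv_cons, wv_nil, one_mul, upd_apply, Nat.reduceEqDiff, ↓reduceIte,
    exists_eq_right] at this
  exact this

theorem f0 :
    ∀ x ∈ F.S₀, x * F.a = F.a * x ∧ (x * x = F.z → (x = F.a ∨ x = F.z * F.a ∨ (∃ q ∈ F.S₀, q * x =
    F.z * x * q ∧ (q * q = 1 ∨ q * q = F.z)))) := by
  have := PM.holds MS_ok MS_subs F.emb (p := (.all 1 20 (.and (.eq [1,20] [20,1]) (.imp (.eq [20,20] [9]) (.or (.eq [20] [1]) (.or (.eq [20]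
      [1,9]) (.ex 1 23 (.and (.eq [20,23] [23,20,9]) (.or (.eq [23,23] []) (.eq [23,23] [9])))))))))) (by decide +kernel)
  simp only [Fm.sem, wv_cons, wv_nil, one_mul, upd_apply, Nat.reduceEqDiff, ↓reduceIte,
    exists_eq_right] at this
  exact this

theorem sqQ :
    ∀ x ∈ F.Q, (x * x = 1 ∨ x * x = F.z) ∧ (x ∈ F.R → x ∈ F.U) ∧ (x * x = 1 → (∃ y ∈ F.W, y ≠ 1 ∧ y
    ≠ F.z ∧ x * y = y * x)) := by
  have := PM.holds MS_ok MS_subs F.emb (p := (.all 2 20 (.and (.or (.eq [20,20] []) (.eq [20,20] [9])) (.and (.imp (.ex 3 26 (.eq [26] [20]))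
      (.ex 4 26 (.eq [26] [20]))) (.imp (.eq [20,20] []) (.ex 6 21 (.and (.not (.eq [21] [])) (.and
      (.not (.eq [21] [9])) (.eq [21,20] [20,21]))))))))) (by decide +kernel)
  simp only [Fm.sem, wv_cons, wv_nil, one_mul, upd_apply, Nat.reduceEqDiff, ↓reduceIte,
    exists_eq_right] at this
  exact this

theorem sqR :
    ∀ x ∈ F.R, x * x = 1 ∨ x * x = F.z := by
  have := PM.holds MS_ok MS_subs F.emb (p := (.all 3 20 (.or (.eq [20,20] []) (.eq [20,20] [9])))) (by decide +kernel)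
  simp only [Fm.sem, wv_cons, wv_nil, one_mul, upd_apply, Nat.reduceEqDiff, ↓reduceIte,
    exists_eq_right] at this
  exact this

theorem QR :
    ∀ x ∈ F.Q, ∀ y ∈ F.R, (x * y * x * y) ∈ F.U ∧ ((x * y * x * y) ∈ F.A → (x ∈ F.U ∨ y ∈ F.U)) := by
  have := PM.holds MS_ok MS_subs F.emb (p := (.all 2 20 (.all 3 21 (.bind 24 [21,20,21,20] (.and (.ex 4 26 (.eq [26] [24])) (.imp (.ex 7 26
      (.eq [26] [24])) (.or (.ex 4 26 (.eq [26] [20])) (.ex 4 26 (.eq [26] [21]))))))))) (by decide +kernel)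
  simp only [Fm.sem, wv_cons, wv_nil, one_mul, upd_apply, Nat.reduceEqDiff, ↓reduceIte,
    exists_eq_right] at this
  exact this

theorem c2 :
    ∀ q ∈ F.Q, (q * F.j) * (F.j * q * q * q) = 1 ∧ (∃ x ∈ F.R, ∀ u ∈ F.U, ((q * F.j) * (x * u) *
    (F.j * q * q * q)) * (x * u) ≠ (x * u) * ((q * F.j) * (x * u) * (F.j * q * q * q))) := by
  have := PM.holds MS_ok MS_subs F.emb (p := (.all 2 23 (.bind 22 [7,23] (.bind 27 [23,23,23,7] (.and (.eq [27,22] []) (.ex 3 20 (.all 4 24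
      (.bind 25 [24,20] (.bind 21 [27,25,22] (.not (.eq [25,21] [21,25]))))))))))) (by decide +kernel)
  simp only [Fm.sem, wv_cons, wv_nil, one_mul, upd_apply, Nat.reduceEqDiff, ↓reduceIte,
    exists_eq_right] at this
  exact this

theorem f4 :
    ∀ u ∈ F.S, (u * u) * (u * u) = 1 → ((u * u) ∈ F.W ∨ (∀ v ∈ F.S, v * v = 1 → u * v = v * u → (v =
    1 ∨ v = (u * u) ∨ v = F.z ∨ v = (u * u) * F.z))) := by
  have := PM.holds MS_ok MS_subs F.emb (p := (.all 0 24 (.bind 28 [24,24] (.imp (.eq [28,28] []) (.or (.ex 6 26 (.eq [26] [28])) (.all 0 25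
      (.imp (.eq [25,25] []) (.imp (.eq [25,24] [24,25]) (.or (.eq [25] []) (.or (.eq [25] [28]) (.or
      (.eq [25] [9]) (.eq [25] [9,28])))))))))))) (by decide +kernel)
  simp only [Fm.sem, wv_cons, wv_nil, one_mul, upd_apply, Nat.reduceEqDiff, ↓reduceIte,
    exists_eq_right] at this
  exact this

theorem inv :
    ∀ y ∈ F.S, y * y = 1 → (y ∈ F.W ∨ (y * F.a = F.a * y ∧ ((∃ q ∈ F.Q, q * q = 1 ∧ q * y = y * q ∧
    (∃ u ∈ F.Q, u * u = 1 ∧ u * y = y * u ∧ q * u ≠ u * q)) ∨ (∃ q ∈ F.R, q * q = 1 ∧ q * y = y * q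
    ∧ (∃ u ∈ F.R, u * u = 1 ∧ u * y = y * u ∧ q * u ≠ u * q)))) ∨ (y * F.a ≠ F.a * y ∧ (∃ s ∈ F.S, s
    * y = y * s ∧ (s * s = F.w ∨ s * s = F.w * F.z) ∧ (∃ v ∈ F.V, v * y = y * s * s * v)))) := by
  have := PM.holds MS_ok MS_subs F.emb (p := (.all 0 21 (.imp (.eq [21,21] []) (.or (.ex 6 26 (.eq [26] [21])) (.or (.and (.eq [1,21] [21,1])
      (.or (.ex 2 23 (.and (.eq [23,23] []) (.and (.eq [21,23] [23,21]) (.ex 2 24 (.and (.eq [24,24]
      []) (.and (.eq [21,24] [24,21]) (.not (.eq [24,23] [23,24])))))))) (.ex 3 23 (.and (.eq [23,23]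
      []) (.and (.eq [21,23] [23,21]) (.ex 3 24 (.and (.eq [24,24] []) (.and (.eq [21,24] [24,21])
      (.not (.eq [24,23] [23,24])))))))))) (.and (.not (.eq [1,21] [21,1])) (.ex 0 22 (.and (.eq
      [21,22] [22,21]) (.and (.or (.eq [22,22] [10]) (.eq [22,22] [9,10])) (.ex 5 25 (.eq [21,25]
      [25,22,22,21]))))))))))) (by decide +kernel)
  simp only [Fm.sem, wv_cons, wv_nil, one_mul, upd_apply, Nat.reduceEqDiff, ↓reduceIte,
    exists_eq_right] at this
  exact this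

theorem fW :
    ∀ x ∈ F.W, x * x = 1 ∧ x ∈ F.V ∧ x ∈ F.U ∧ (∃ v ∈ F.V, v * v = x) ∧ (x = 1 ∨ x = F.z ∨ x = F.w ∨
    x = F.w * F.z ∨ (∃ s ∈ F.S, s * x = F.c * F.c * s)) := by
  have := PM.holds MS_ok MS_subs F.emb (p := (.all 6 20 (.and (.eq [20,20] []) (.and (.ex 5 26 (.eq [26] [20])) (.and (.ex 4 26 (.eq [26]
      [20])) (.and (.ex 5 25 (.eq [25,25] [20])) (.or (.eq [20] []) (.or (.eq [20] [9]) (.or (.eq [20]
      [10]) (.or (.eq [20] [9,10]) (.ex 0 22 (.eq [20,22] [22,5,5])))))))))))) (by decide +kernel)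
  simp only [Fm.sem, wv_cons, wv_nil, one_mul, upd_apply, Nat.reduceEqDiff, ↓reduceIte,
    exists_eq_right] at this
  exact this

theorem fV :
    ∀ x ∈ F.V, x * x * x * x = 1 ∧ (∀ y ∈ F.V, x * y = y * x) := by
  have := PM.holds MS_ok MS_subs F.emb (p := (.all 5 20 (.and (.eq [20,20,20,20] []) (.all 5 21 (.eq [21,20] [20,21]))))) (by decide +kernel)
  simp only [Fm.sem, wv_cons, wv_nil, one_mul, upd_apply, Nat.reduceEqDiff, ↓reduceIte,
    exists_eq_right] at this
  exact this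

theorem fU :
    ∀ x ∈ F.U, (x * x = 1 → x ∈ F.W) ∧ (∀ y ∈ F.U, x * y = y * x) := by
  have := PM.holds MS_ok MS_subs F.emb (p := (.all 4 20 (.and (.imp (.eq [20,20] []) (.ex 6 26 (.eq [26] [20]))) (.all 4 21 (.eq [21,20]
      [20,21]))))) (by decide +kernel)
  simp only [Fm.sem, wv_cons, wv_nil, one_mul, upd_apply, Nat.reduceEqDiff, ↓reduceIte,
    exists_eq_right] at this
  exact this

theorem fK :
    ∀ s ∈ F.S, ((∀ x ∈ F.Q, ∃ u ∈ F.A, s * x = u * x * s) → s ∈ F.Q) ∧ ((∀ x ∈ F.Q, x * s = s * x) →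
    s ∈ F.A) ∧ ((∀ x ∈ F.S, x * s = s * x) → (s = 1 ∨ s = F.z)) := by
  have := PM.holds MS_ok MS_subs F.emb (p := (.all 0 22 (.and (.imp (.all 2 20 (.ex 7 24 (.eq [20,22] [22,20,24]))) (.ex 2 26 (.eq [26]
      [22]))) (.and (.imp (.all 2 20 (.eq [22,20] [20,22])) (.ex 7 26 (.eq [26] [22]))) (.imp (.all 0
      20 (.eq [22,20] [20,22])) (.or (.eq [22] []) (.eq [22] [9]))))))) (by decide +kernel)
  simp only [Fm.sem, wv_cons, wv_nil, one_mul, upd_apply, Nat.reduceEqDiff, ↓reduceIte,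
    exists_eq_right] at this
  exact this

theorem fA :
    ∀ x ∈ F.A, x = 1 ∨ x = F.a ∨ x = F.z ∨ x = F.z * F.a := by
  have := PM.holds MS_ok MS_subs F.emb (p := (.all 7 20 (.or (.eq [20] []) (.or (.eq [20] [1]) (.or (.eq [20] [9]) (.eq [20] [1,9])))))) (by decide +kernel)
  simp only [Fm.sem, wv_cons, wv_nil, one_mul, upd_apply, Nat.reduceEqDiff, ↓reduceIte,
    exists_eq_right] at this
  exact this

theorem card_S : Nat.card F.S = 512 := PM.card_of_emb MS_ok MS_subs F.emb 0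

theorem card_Q : Nat.card F.Q = 64 := PM.card_of_emb MS_ok MS_subs F.emb 2

theorem card_R : Nat.card F.R = 64 := PM.card_of_emb MS_ok MS_subs F.emb 3

theorem card_U : Nat.card F.U = 16 := PM.card_of_emb MS_ok MS_subs F.emb 4

theorem card_W : Nat.card F.W = 8 := PM.card_of_emb MS_ok MS_subs F.emb 6

theorem card_A : Nat.card F.A = 4 := PM.card_of_emb MS_ok MS_subs F.emb 7

theorem norm_Q [Finite G] : F.S ≤ normalizer (F.Q : Set G) :=
  PM.le_normalizer MS_ok MS_subs F.emb _ 2 (by decide +kernel)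

theorem norm_R [Finite G] : F.S ≤ normalizer (F.R : Set G) :=
  PM.le_normalizer MS_ok MS_subs F.emb _ 3 (by decide +kernel)

theorem norm_U [Finite G] : F.S ≤ normalizer (F.U : Set G) :=
  PM.le_normalizer MS_ok MS_subs F.emb _ 4 (by decide +kernel)

theorem norm_W [Finite G] : F.S ≤ normalizer (F.W : Set G) :=
  PM.le_normalizer MS_ok MS_subs F.emb _ 6 (by decide +kernel)

end HM

end Cfsg.Lib.HSyl
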